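import Mathlib.RingTheory.DiscreteValuationRing.TFAE
import Mathlib.RingTheory.AdjoinRoot
import Mathlib.FieldTheory.KummerPolynomial
import Mathlib.FieldTheory.IsAlgClosed.AlgebraicClosure
import Mathlib.LinearAlgebra.FreeModule.PID
import Mathlib.RingTheory.Ideal.GoingUp
import Mathlib.Algebra.Algebra.Subalgebra.Directed
import Mathlib.Algebra.CharP.Quotient
import Mathlib.Algebra.CharP.Lemmas
import Groth.Agent.CAlg.K82.OneDim

/-!
# Extensions of discrete valuation rings with perfect residue field

For a discrete valuation ring `R` with residue characteristic exponent `p`, finite extensions `T` of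
`p`-power rank with `m_R T` maximal and purely inseparable residue extension ("nice").
-/

universe u v w

namespace K82.PerfRes

open IsLocalRing Polynomial

variable (R : Type u) [CommRing R] [IsDomain R] [IsDiscreteValuationRing R]

/-- Nice finite extensions of `R`. -/
structure Nice (p : ℕ) (T : Type v) [CommRing T] [Algebra R T] : Prop where
  finite : Module.Finite R T
  rank : ∃ m, Module.finrank R T = p ^ m
  prime : ((maximalIdeal R).map (algebraMap R T)).IsPrime
  pow : ∀ y : T, ∃ (m : ℕ) (z : R),
    algebraMap R T z - y ^ (p ^ m) ∈ (maximalIdeal R).map (algebraMap R T)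

variable {R}

theorem mem_map_of_algHom {I : Ideal R} {T : Type v} [CommRing T] [Algebra R T]
    {T' : Type w} [CommRing T'] [Algebra R T'] (f : T →ₐ[R] T') {x : T}
    (hx : x ∈ I.map (algebraMap R T)) : f x ∈ I.map (algebraMap R T') := by
  have h1 := Ideal.mem_map_of_mem (f : T →+* T') hx
  rw [Ideal.map_map] at h1
  have h2 : (f : T →+* T').comp (algebraMap R T) = algebraMap R T' := f.comp_algebraMap
  rwa [h2] at h1

theorem Nice.of_algEquiv {p : ℕ} {T : Type v} [CommRing T] [Algebra R T] (h : Nice R p T)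
    {T' : Type w} [CommRing T'] [Algebra R T'] (e : T ≃ₐ[R] T') : Nice R p T' := by
  have hfin := h.finite
  have hmem : ∀ x : T', e.symm x ∈ (maximalIdeal R).map (algebraMap R T) ↔
      x ∈ (maximalIdeal R).map (algebraMap R T') := by
    intro x
    constructor
    · intro hx
      have := mem_map_of_algHom (e : T →ₐ[R] T') hx
      simpa using this
    · intro hx
      exact mem_map_of_algHom (e.symm : T' →ₐ[R] T) hx
  refine ⟨Module.Finite.equiv e.toLinearEquiv, ?_, ?_, ?_⟩
  · rw [← e.toLinearEquiv.finrank_eq]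
    exact h.rank
  · have := h.prime
    have h1 : (maximalIdeal R).map (algebraMap R T') =
        ((maximalIdeal R).map (algebraMap R T)).comap (e.symm : T' →ₐ[R] T) := by
      ext x
      rw [Ideal.mem_comap]
      exact (hmem x).symm
    rw [h1]
    infer_instance
  · intro y
    obtain ⟨m, z, hz⟩ := h.pow (e.symm y)
    refine ⟨m, z, (hmem _).1 ?_⟩
    rwa [map_sub, map_pow, AlgEquiv.commutes]

theorem Nice.base (p : ℕ) : Nice R p R := by
  refine ⟨inferInstance, ⟨0, by rw [Module.finrank_self, pow_zero]⟩, ?_, ?_⟩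
  · rw [Algebra.algebraMap_self, Ideal.map_id]
    infer_instance
  · intro y
    refine ⟨0, y, ?_⟩
    simp

/-- Structure of nice extensions which are domains. -/
theorem Nice.isLocalRing {p : ℕ} {T : Type v} [CommRing T] [Algebra R T] (h : Nice R p T) :
    ∃ _ : IsLocalRing T, maximalIdeal T = (maximalIdeal R).map (algebraMap R T) := by
  have hfin := h.finite
  have hp := h.prime
  haveI : Algebra.IsIntegral R T := Algebra.IsIntegral.of_finite R T
  have hle : ∀ N : Ideal T, N.IsMaximal → (maximalIdeal R).map (algebraMap R T) ≤ N := by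
    intro N hN
    rw [Ideal.map_le_iff_le_comap]
    have h1 : (N.comap (algebraMap R T)).IsMaximal :=
      Ideal.isMaximal_comap_of_isIntegral_of_isMaximal N
    rw [IsLocalRing.eq_maximalIdeal h1]
  have hmax : ((maximalIdeal R).map (algebraMap R T)).IsMaximal := by
    apply Ideal.isMaximal_of_isIntegral_of_isMaximal_comap (R := R)
    have h1 : maximalIdeal R ≤ ((maximalIdeal R).map (algebraMap R T)).comap (algebraMap R T) :=
      Ideal.le_comap_map
    have h2 : ((maximalIdeal R).map (algebraMap R T)).comap (algebraMap R T) ≠ ⊤ :=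
      Ideal.comap_ne_top _ hp.ne_top
    rw [← (maximalIdeal.isMaximal R).eq_of_le h2 h1]
    infer_instance
  have hloc : IsLocalRing T := IsLocalRing.of_unique_max_ideal
    ⟨_, hmax, fun N hN => ((hmax.eq_of_le hN.ne_top (hle N hN))).symm⟩
  exact ⟨hloc, (IsLocalRing.eq_maximalIdeal hmax).symm⟩

/-- Adjunction of a `p`-th root. -/
theorem Nice.extend {p : ℕ} [Fact p.Prime] [CharP (ResidueField R) p]
    {T : Type v} [CommRing T] [IsDomain T] [Algebra R T] (hinj : Function.Injective (algebraMap R T))
    (h : Nice R p T) (y : T)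
    (hy : ∀ z : T, z ^ p - y ∉ (maximalIdeal R).map (algebraMap R T)) :
    IsDomain (AdjoinRoot (X ^ p - C y : T[X])) ∧ Nice R p (AdjoinRoot (X ^ p - C y : T[X])) := by
  have hp0 : p ≠ 0 := (Fact.out : p.Prime).ne_zero
  have hfin := h.finite
  obtain ⟨hloc, hmaxT⟩ := h.isLocalRing
  have hmon : (X ^ p - C y : T[X]).Monic := monic_X_pow_sub_C y hp0
  let pb := AdjoinRoot.powerBasis' hmon
  haveI : Module.Free T (AdjoinRoot (X ^ p - C y : T[X])) := Module.Free.of_basis pb.basis
  haveI : Module.Finite T (AdjoinRoot (X ^ p - C y : T[X])) := Module.Finite.of_basis pb.basis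
  haveI : Module.Finite R (AdjoinRoot (X ^ p - C y : T[X])) := Module.Finite.trans T _
  haveI : IsNoetherianRing T := IsNoetherianRing.of_finite R T
  haveI : IsNoetherianRing (AdjoinRoot (X ^ p - C y : T[X])) := IsNoetherianRing.of_finite T _
  haveI : FaithfulSMul R T := (faithfulSMul_iff_algebraMap_injective R T).2 hinj
  haveI : Module.IsTorsionFree R T := inferInstance
  haveI : Module.Free R T := inferInstance
  have hrankE : Module.finrank T (AdjoinRoot (X ^ p - C y : T[X])) = p := by
    rw [pb.finrank]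
    exact natDegree_X_pow_sub_C
  -- the ideal
  have hJ : (maximalIdeal R).map (algebraMap R (AdjoinRoot (X ^ p - C y : T[X]))) =
      ((maximalIdeal R).map (algebraMap R T)).map (AdjoinRoot.of (X ^ p - C y : T[X])) := by
    rw [Ideal.map_map]
    rfl
  have hprime : ((maximalIdeal R).map
      (algebraMap R (AdjoinRoot (X ^ p - C y : T[X])))).IsPrime := by
    rw [hJ, ← Ideal.Quotient.isDomain_iff_prime]
    haveI : ((maximalIdeal R).map (algebraMap R T)).IsMaximal := by
      rw [← hmaxT]; infer_instance
    letI := Ideal.Quotient.field ((maximalIdeal R).map (algebraMap R T))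
    let e := AdjoinRoot.quotAdjoinRootEquivQuotPolynomialQuot
      ((maximalIdeal R).map (algebraMap R T)) (X ^ p - C y : T[X])
    have hirr : Irreducible ((X ^ p - C y : T[X]).map
        (Ideal.Quotient.mk ((maximalIdeal R).map (algebraMap R T)))) := by
      rw [Polynomial.map_sub, Polynomial.map_pow, Polynomial.map_X, Polynomial.map_C]
      refine X_pow_sub_C_irreducible_of_prime Fact.out (fun b hb => ?_)
      obtain ⟨b, rfl⟩ := Ideal.Quotient.mk_surjective b
      rw [← map_pow, Ideal.Quotient.eq] at hb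
      exact hy b hb
    haveI : (Ideal.span {(X ^ p - C y : T[X]).map
        (Ideal.Quotient.mk ((maximalIdeal R).map (algebraMap R T)))}).IsMaximal :=
      PrincipalIdealRing.isMaximal_of_irreducible hirr
    exact e.toMulEquiv.isDomain _
  -- the `p`-power condition
  have hpm : (p : R) ∈ maximalIdeal R := by
    rw [← IsLocalRing.residue_eq_zero_iff, map_natCast]
    exact CharP.cast_eq_zero _ p
  let J := (maximalIdeal R).map (algebraMap R (AdjoinRoot (X ^ p - C y : T[X])))
  haveI : J.IsPrime := hprime
  haveI hchar : CharP (AdjoinRoot (X ^ p - C y : T[X]) ⧸ J) p := by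
    have h0 : ((p : ℕ) : AdjoinRoot (X ^ p - C y : T[X]) ⧸ J) = 0 := by
      rw [← map_natCast (Ideal.Quotient.mk J), Ideal.Quotient.eq_zero_iff_mem,
        ← map_natCast (algebraMap R (AdjoinRoot (X ^ p - C y : T[X])))]
      exact Ideal.mem_map_of_mem _ hpm
    exact (CharP.charP_iff_prime_eq_zero Fact.out).2 h0
  have hfrob : ∀ g : T[X], ∃ t : T, Ideal.Quotient.mk J (AdjoinRoot.mk (X ^ p - C y) g) ^ p =
      Ideal.Quotient.mk J (algebraMap T _ t) := by
    intro g
    induction g using Polynomial.induction_on with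
    | C a => exact ⟨a ^ p, by rw [map_pow, map_pow]; rfl⟩
    | add f g hf hg =>
      obtain ⟨t, ht⟩ := hf
      obtain ⟨t', ht'⟩ := hg
      refine ⟨t + t', ?_⟩
      rw [map_add, map_add, add_pow_char, ht, ht', map_add, map_add]
    | monomial n a hn =>
      refine ⟨a ^ p * y ^ (n + 1), ?_⟩
      have h1 : AdjoinRoot.mk (X ^ p - C y) X ^ p = algebraMap T (AdjoinRoot (X ^ p - C y : T[X])) y := by
        have h2 : AdjoinRoot.mk (X ^ p - C y : T[X]) (X ^ p - C y) = 0 := AdjoinRoot.mk_self
        rw [map_sub, map_pow, sub_eq_zero] at h2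
        exact h2
      have h3 : AdjoinRoot.mk (X ^ p - C y) (C a * X ^ (n + 1)) ^ p =
          algebraMap T (AdjoinRoot (X ^ p - C y : T[X])) (a ^ p * y ^ (n + 1)) := by
        rw [map_mul, map_pow, mul_pow, ← pow_mul, mul_comm (n + 1) p, pow_mul, h1, map_mul,
          map_pow, map_pow]
        rfl
      rw [← map_pow, h3]
  have hE : Nice R p (AdjoinRoot (X ^ p - C y : T[X])) := by
    refine ⟨inferInstance, ?_, hprime, ?_⟩
    · obtain ⟨m, hm⟩ := h.rank
      refine ⟨m + 1, ?_⟩
      rw [← Module.finrank_mul_finrank R T, hm, hrankE, pow_succ]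
    · intro e
      obtain ⟨g, rfl⟩ := AdjoinRoot.mk_surjective e
      obtain ⟨t, ht⟩ := hfrob g
      obtain ⟨m, z, hz⟩ := h.pow t
      refine ⟨m + 1, z, ?_⟩
      have h1 := mem_map_of_algHom
        (IsScalarTower.toAlgHom R T (AdjoinRoot (X ^ p - C y : T[X]))) hz
      rw [map_sub, AlgHom.commutes] at h1
      change _ ∈ J at h1
      change _ ∈ J
      rw [← Ideal.Quotient.eq_zero_iff_mem, map_sub, sub_eq_zero] at h1 ⊢
      have h4 : Ideal.Quotient.mk J (AdjoinRoot.mk (X ^ p - C y) g ^ p ^ (m + 1)) =
          Ideal.Quotient.mk J (algebraMap T _ (t ^ p ^ m)) := by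
        rw [map_pow, pow_succ', pow_mul, ht, ← map_pow, ← map_pow]
      rw [h1, h4]
      rfl
  refine ⟨?_, hE⟩
  obtain ⟨hlocE, hmaxE⟩ := hE.isLocalRing
  obtain ⟨π, hπ⟩ := IsDiscreteValuationRing.exists_irreducible R
  have hπ0 : π ≠ 0 := hπ.ne_zero
  refine K82.OneDim.isDomain_of_principal (algebraMap R _ π) ?_ ?_
  · rw [mem_nonZeroDivisors_iff_right]
    intro x hx
    have h1 : algebraMap R T π • x = 0 := by
      rw [Algebra.smul_def, ← IsScalarTower.algebraMap_apply, mul_comm]
      exact hx
    have h2 : algebraMap R T π ≠ 0 := by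
      rw [Ne, map_eq_zero_iff _ hinj]
      exact hπ0
    exact (smul_eq_zero.1 h1).resolve_left h2
  · rw [hmaxE, hπ.maximalIdeal_eq, Ideal.map_span, Set.image_singleton]

end K82.PerfRes
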