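import Mathlib.Order.Zorn
import Groth.Agent.Hensel.K82.PerfRes

/-!
# Extensions of discrete valuation rings with perfect residue field: the maximal extension

Directed unions of nice extensions inside a fixed algebraically closed field.
-/

universe u v w

namespace K82.PerfRes

open IsLocalRing Polynomial

variable {R : Type u} [CommRing R] [IsDomain R] [IsDiscreteValuationRing R]

variable (R) in
/-- Directed unions of nice extensions. -/
def Good (p : ℕ) {Ω : Type v} [Field Ω] [Algebra R Ω] (S : Subalgebra R Ω) : Prop :=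
  ∀ s : Finset Ω, (↑s : Set Ω) ⊆ S → ∃ T : Subalgebra R Ω, (↑s : Set Ω) ⊆ T ∧ T ≤ S ∧ Nice R p T

theorem mem_map_iff {ϖ : R} (hϖ : Irreducible ϖ) {T : Type v} [CommRing T] [Algebra R T] (x : T) :
    x ∈ (maximalIdeal R).map (algebraMap R T) ↔ ∃ t, x = algebraMap R T ϖ * t := by
  rw [hϖ.maximalIdeal_eq, Ideal.map_span, Set.image_singleton, Ideal.mem_span_singleton]
  rfl

variable {p : ℕ} {Ω : Type v} [Field Ω] [Algebra R Ω]

omit [IsDomain R] [IsDiscreteValuationRing R] in
theorem algebraMap_subalgebra_injective (hinj : Function.Injective (algebraMap R Ω))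
    (T : Subalgebra R Ω) : Function.Injective (algebraMap R T) := by
  intro a b hab
  apply hinj
  have := congrArg T.val hab
  rwa [AlgHom.commutes, AlgHom.commutes] at this

theorem good_bot (hinj : Function.Injective (algebraMap R Ω)) :
    Good R p (⊥ : Subalgebra R Ω) := fun s hs =>
  ⟨⊥, hs, le_rfl, (Nice.base p).of_algEquiv (Algebra.botEquivOfInjective hinj).symm⟩

theorem good_iSup {ι : Type*} [Nonempty ι] (K : ι → Subalgebra R Ω)
    (dir : Directed (· ≤ ·) K) (hK : ∀ i, Good R p (K i)) : Good R p (iSup K) := by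
  classical
  intro s hs
  have h1 : ∃ i, (↑s : Set Ω) ⊆ K i := by
    rw [Subalgebra.coe_iSup_of_directed dir] at hs
    induction s using Finset.induction_on with
    | empty => exact ⟨Classical.arbitrary ι, by simp⟩
    | insert a s ha ih =>
      rw [Finset.coe_insert, Set.insert_subset_iff] at hs
      obtain ⟨i, hi⟩ := ih hs.2
      obtain ⟨j, hj⟩ := Set.mem_iUnion.1 hs.1
      obtain ⟨k, hik, hjk⟩ := dir i j
      refine ⟨k, ?_⟩
      rw [Finset.coe_insert, Set.insert_subset_iff]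
      exact ⟨hjk hj, hi.trans hik⟩
  obtain ⟨i, hi⟩ := h1
  obtain ⟨T, hsT, hTi, hT⟩ := hK i s hi
  exact ⟨T, hsT, hTi.trans (le_iSup K i), hT⟩

theorem exists_maximal_good (hinj : Function.Injective (algebraMap R Ω)) :
    ∃ S : Subalgebra R Ω, Maximal (Good R p) S := by
  obtain ⟨S, -, hS⟩ := zorn_le_nonempty₀ {S : Subalgebra R Ω | Good R p S} (by
    intro c hc hchain y hy
    have : Nonempty c := ⟨⟨y, hy⟩⟩
    refine ⟨iSup (fun i : c => (i : Subalgebra R Ω)), ?_, ?_⟩
    · exact good_iSup _ (hchain.directedOn.directed_val) (fun i => hc i.2)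
    · intro z hz
      exact le_iSup (fun i : c => (i : Subalgebra R Ω)) ⟨z, hz⟩) ⊥ (good_bot hinj)
  exact ⟨S, hS⟩

omit [IsDomain R] [IsDiscreteValuationRing R] in
theorem exists_finset_adjoin (S : Subalgebra R Ω) (β : Ω) {x : Ω}
    (hx : x ∈ Algebra.adjoin R ((S : Set Ω) ∪ {β})) :
    ∃ s₀ : Finset Ω, (↑s₀ : Set Ω) ⊆ S ∧ x ∈ Algebra.adjoin R ((↑s₀ : Set Ω) ∪ {β}) := by
  classical
  induction hx using Algebra.adjoin_induction with
  | mem x hx =>
    rcases hx with hx | hx
    · refine ⟨{x}, by simpa using hx, Algebra.subset_adjoin (Or.inl (by simp))⟩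
    · exact ⟨∅, by simp, Algebra.subset_adjoin (Or.inr hx)⟩
  | algebraMap r => exact ⟨∅, by simp, Subalgebra.algebraMap_mem _ r⟩
  | add x y _ _ hx hy =>
    obtain ⟨s, hs, hsx⟩ := hx
    obtain ⟨t, ht, hty⟩ := hy
    refine ⟨s ∪ t, by simp [hs, ht], ?_⟩
    refine add_mem (Algebra.adjoin_mono ?_ hsx) (Algebra.adjoin_mono ?_ hty)
    · exact Set.union_subset_union_left _ (by simp)
    · exact Set.union_subset_union_left _ (by simp)
  | mul x y _ _ hx hy =>
    obtain ⟨s, hs, hsx⟩ := hx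
    obtain ⟨t, ht, hty⟩ := hy
    refine ⟨s ∪ t, by simp [hs, ht], ?_⟩
    refine mul_mem (Algebra.adjoin_mono ?_ hsx) (Algebra.adjoin_mono ?_ hty)
    · exact Set.union_subset_union_left _ (by simp)
    · exact Set.union_subset_union_left _ (by simp)

omit [IsDomain R] [IsDiscreteValuationRing R] in
theorem exists_finset_adjoin' (S : Subalgebra R Ω) (β : Ω) (s : Finset Ω)
    (hs : (↑s : Set Ω) ⊆ Algebra.adjoin R ((S : Set Ω) ∪ {β})) :
    ∃ s₀ : Finset Ω, (↑s₀ : Set Ω) ⊆ S ∧
      (↑s : Set Ω) ⊆ Algebra.adjoin R ((↑s₀ : Set Ω) ∪ {β}) := by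
  classical
  induction s using Finset.induction_on with
  | empty => exact ⟨∅, by simp, by simp⟩
  | insert a s ha ih =>
    rw [Finset.coe_insert, Set.insert_subset_iff] at hs
    obtain ⟨t, ht, hts⟩ := ih hs.2
    obtain ⟨t', ht', hts'⟩ := exists_finset_adjoin S β hs.1
    refine ⟨t ∪ t', by simp [ht, ht'], ?_⟩
    rw [Finset.coe_insert, Set.insert_subset_iff]
    constructor
    · exact Algebra.adjoin_mono (Set.union_subset_union_left _ (by simp)) hts'
    · exact hts.trans (Algebra.adjoin_mono (Set.union_subset_union_left _ (by simp)))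

/-- The extension step. -/
theorem good_adjoin [Fact p.Prime] [CharP (ResidueField R) p]
    (hinj : Function.Injective (algebraMap R Ω)) {S : Subalgebra R Ω} (hS : Good R p S)
    (y : S) (hy : ∀ z : S, z ^ p - y ∉ (maximalIdeal R).map (algebraMap R S))
    (β : Ω) (hβ : β ^ p = y) : Good R p (Algebra.adjoin R ((S : Set Ω) ∪ {β})) := by
  classical
  intro s hs
  obtain ⟨s₀, hs₀, hss₀⟩ := exists_finset_adjoin' S β s hs
  obtain ⟨T, hT₀, hTS, hT⟩ := hS (insert (y : Ω) s₀) (by
    rw [Finset.coe_insert, Set.insert_subset_iff]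
    exact ⟨y.2, hs₀⟩)
  rw [Finset.coe_insert, Set.insert_subset_iff] at hT₀
  obtain ⟨hyT, hs₀T⟩ := hT₀
  let y' : T := ⟨y, hyT⟩
  have hinjT : Function.Injective (algebraMap R T) := algebraMap_subalgebra_injective hinj T
  obtain ⟨hdom, hnice⟩ := hT.extend hinjT y' (by
    intro z hz
    refine hy (Subalgebra.inclusion hTS z) ?_
    have h1 := mem_map_of_algHom (Subalgebra.inclusion hTS) hz
    rw [map_sub, map_pow] at h1
    exact h1)
  let φ : AdjoinRoot (X ^ p - C y' : T[X]) →ₐ[R] Ω :=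
    AdjoinRoot.liftAlgHom _ T.val β (by
      rw [eval₂_sub, eval₂_pow, eval₂_X, eval₂_C]
      change β ^ p - (y : Ω) = 0
      rw [hβ, sub_self])
  have hφT : ∀ t : T, φ (AdjoinRoot.of _ t) = t := by
    intro t
    change AdjoinRoot.liftAlgHom _ _ _ _ (AdjoinRoot.mk _ (C t)) = _
    rw [AdjoinRoot.liftAlgHom_mk, eval₂_C]
    rfl
  have hφβ : φ (AdjoinRoot.root _) = β := AdjoinRoot.liftAlgHom_root _ _ _ _
  have hfin := hnice.finite
  have : Algebra.IsIntegral R (AdjoinRoot (X ^ p - C y' : T[X])) := Algebra.IsIntegral.of_finite R _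
  have hker : RingHom.ker (φ : AdjoinRoot (X ^ p - C y' : T[X]) →+* Ω) = ⊥ := by
    apply Ideal.eq_bot_of_comap_eq_bot (R := R)
    rw [RingHom.comap_ker]
    have h2 : (φ : AdjoinRoot (X ^ p - C y' : T[X]) →+* Ω).comp (algebraMap R _) =
      algebraMap R Ω := φ.comp_algebraMap
    rw [h2]
    exact (RingHom.injective_iff_ker_eq_bot _).1 hinj
  have hφinj : Function.Injective φ := (RingHom.injective_iff_ker_eq_bot _).2 hker
  refine ⟨φ.range, ?_, ?_, hnice.of_algEquiv (AlgEquiv.ofInjective φ hφinj)⟩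
  · refine hss₀.trans ?_
    change Algebra.adjoin R ((↑s₀ : Set Ω) ∪ {β}) ≤ φ.range
    rw [Algebra.adjoin_le_iff]
    rintro x (hx | hx)
    · exact ⟨AdjoinRoot.of _ ⟨x, hs₀T hx⟩, hφT _⟩
    · rw [Set.mem_singleton_iff] at hx
      rw [hx]
      exact ⟨AdjoinRoot.root _, hφβ⟩
  · rintro x ⟨e, rfl⟩
    obtain ⟨g, rfl⟩ := AdjoinRoot.mk_surjective e
    change AdjoinRoot.liftAlgHom _ T.val β _ (AdjoinRoot.mk _ g) ∈ _
    rw [AdjoinRoot.liftAlgHom_mk, eval₂_eq_sum_range]
    refine Subalgebra.sum_mem _ fun i _ => mul_mem ?_ (pow_mem ?_ i)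
    · exact Algebra.subset_adjoin (Or.inl (hTS (g.coeff i).2))
    · exact Algebra.subset_adjoin (Or.inr rfl)

section structure_

variable (hinj : Function.Injective (algebraMap R Ω)) {S : Subalgebra R Ω} (hS : Good R p S)

include hS in
theorem Good.exists_nice (x : S) : ∃ T : Subalgebra R Ω, (x : Ω) ∈ T ∧ T ≤ S ∧ Nice R p T := by
  obtain ⟨T, h1, h2, h3⟩ := hS {(x : Ω)} (by simp)
  exact ⟨T, by simpa using h1, h2, h3⟩

include hS in
theorem Good.ne_top : (maximalIdeal R).map (algebraMap R S) ≠ ⊤ := by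
  obtain ⟨ϖ, hϖ⟩ := IsDiscreteValuationRing.exists_irreducible R
  intro h
  rw [Ideal.eq_top_iff_one, mem_map_iff hϖ] at h
  obtain ⟨t, ht⟩ := h
  obtain ⟨T, htT, hTS, hT⟩ := hS.exists_nice t
  refine hT.prime.ne_top ?_
  rw [Ideal.eq_top_iff_one, mem_map_iff hϖ]
  have h2 : ((1 : S) : Ω) = ((algebraMap R S ϖ * t : S) : Ω) := congrArg Subtype.val ht
  exact ⟨⟨t, htT⟩, Subtype.ext h2⟩

include hS in
theorem Good.isUnit {x : S} (hx : x ∉ (maximalIdeal R).map (algebraMap R S)) : IsUnit x := by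
  obtain ⟨T, hxT, hTS, hT⟩ := hS.exists_nice x
  obtain ⟨hloc, hmax⟩ := hT.isLocalRing
  have h1 : (⟨x, hxT⟩ : T) ∉ maximalIdeal T := by
    rw [hmax]
    intro h
    exact hx (mem_map_of_algHom (Subalgebra.inclusion hTS) h)
  have h2 : IsUnit (⟨x, hxT⟩ : T) := by
    by_contra h
    exact h1 ((mem_maximalIdeal _).2 h)
  exact h2.map (Subalgebra.inclusion hTS)

include hS in
theorem Good.isLocalRing : ∃ _ : IsLocalRing S,
    maximalIdeal S = (maximalIdeal R).map (algebraMap R S) := by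
  have hmem : ∀ x : S, x ∈ nonunits S ↔ x ∈ (maximalIdeal R).map (algebraMap R S) := by
    intro x
    constructor
    · intro hx
      by_contra h
      exact hx (hS.isUnit h)
    · intro hx hu
      exact hS.ne_top (Ideal.eq_top_of_isUnit_mem _ hx hu)
  have hloc : IsLocalRing S := IsLocalRing.of_nonunits_add (fun a b ha hb => by
    rw [hmem] at ha hb ⊢
    exact add_mem ha hb)
  refine ⟨hloc, ?_⟩
  ext x
  rw [mem_maximalIdeal, hmem]

include hinj hS in
theorem Good.isDiscreteValuationRing : IsDiscreteValuationRing S := by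
  obtain ⟨ϖ, hϖ⟩ := IsDiscreteValuationRing.exists_irreducible R
  obtain ⟨hlocS, hmaxS⟩ := hS.isLocalRing
  have hinjS : Function.Injective (algebraMap R S) := algebraMap_subalgebra_injective hinj S
  have h0 : algebraMap R S ϖ ≠ 0 := by
    rw [Ne, map_eq_zero_iff _ hinjS]
    exact hϖ.ne_zero
  have hspanS : maximalIdeal S = Ideal.span {algebraMap R S ϖ} := by
    rw [hmaxS, hϖ.maximalIdeal_eq, Ideal.map_span, Set.image_singleton]
  have hirrS : Irreducible (algebraMap R S ϖ) := by
    apply Prime.irreducible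
    rw [← Ideal.span_singleton_prime h0, ← hspanS]
    infer_instance
  refine IsDiscreteValuationRing.ofHasUnitMulPowIrreducibleFactorization
    ⟨algebraMap R S ϖ, hirrS, ?_⟩
  intro x hx
  obtain ⟨T, hxT, hTS, hT⟩ := hS.exists_nice x
  obtain ⟨hloc, hmax⟩ := hT.isLocalRing
  have hfin := hT.finite
  have : IsNoetherianRing T := IsNoetherianRing.of_finite R T
  have hinjT : Function.Injective (algebraMap R T) := algebraMap_subalgebra_injective hinj T
  have h0T : algebraMap R T ϖ ≠ 0 := by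
    rw [Ne, map_eq_zero_iff _ hinjT]
    exact hϖ.ne_zero
  have hspanT : maximalIdeal T = Ideal.span {algebraMap R T ϖ} := by
    rw [hmax, hϖ.maximalIdeal_eq, Ideal.map_span, Set.image_singleton]
  have hirrT : Irreducible (algebraMap R T ϖ) := by
    apply Prime.irreducible
    rw [← Ideal.span_singleton_prime h0T, ← hspanT]
    infer_instance
  have hnf : ¬ IsField T := by
    intro h
    rw [isField_iff_maximalIdeal_eq, hspanT, Ideal.span_singleton_eq_bot] at h
    exact h0T h
  have : IsDiscreteValuationRing T :=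
    ((IsDiscreteValuationRing.TFAE T hnf).out 4 0).1
      (show (maximalIdeal T).IsPrincipal from ⟨⟨algebraMap R T ϖ, hspanT⟩⟩)
  have hx' : (⟨x, hxT⟩ : T) ≠ 0 := by
    intro h
    apply hx
    have h2 : (x : Ω) = 0 := congrArg Subtype.val h
    exact Subtype.ext h2
  obtain ⟨n, hn⟩ := IsDiscreteValuationRing.associated_pow_irreducible hx' hirrT
  refine ⟨n, ?_⟩
  have h3 := (hn.map (Subalgebra.inclusion hTS)).symm
  rw [map_pow, AlgHom.commutes] at h3
  exact h3

end structure_

end K82.PerfRes
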